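import Mathlib.RingTheory.Etale.Basic
import Mathlib.Algebra.Polynomial.Taylor
import Mathlib.RingTheory.MvPolynomial.Basic
import Mathlib.RingTheory.Localization.Away.Basic
import Mathlib.RingTheory.Smooth.Flat
import Mathlib.RingTheory.FinitePresentation

/-! The étale algebras `(R[x₁,…,xₙ]/(g₁(x₁),…,gₙ(xₙ)))[1/∏ gᵢ'(xᵢ)]`. -/

set_option autoImplicit false

namespace Groth.Agent.EtalePoints

universe u

variable {R : Type u} [CommRing R] {n : ℕ}

noncomputable def rel (g : Fin n → Polynomial R) : Ideal (MvPolynomial (Fin n) R) :=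
  Ideal.span (Set.range fun i => Polynomial.aeval (MvPolynomial.X i) (g i))

noncomputable def den (g : Fin n → Polynomial R) : MvPolynomial (Fin n) R :=
  ∏ i, Polynomial.aeval (MvPolynomial.X i) (Polynomial.derivative (g i))

abbrev W (g : Fin n → Polynomial R) : Type u :=
  Localization.Away (Ideal.Quotient.mk (rel g) (den g))

theorem exists_lift {A : Type u} [CommRing A] [Algebra R A] (g : Fin n → Polynomial R) (a : Fin n → A)
    (h : ∀ i, Polynomial.aeval (a i) (g i) = 0)
    (h' : ∀ i, IsUnit (Polynomial.aeval (a i) (Polynomial.derivative (g i)))) :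
    ∃ φ : W g →+* A, ∀ p, φ (algebraMap (MvPolynomial (Fin n) R) (W g) p) = MvPolynomial.aeval a p := by
  have hX : ∀ (i) (p : Polynomial R), MvPolynomial.aeval a (Polynomial.aeval (MvPolynomial.X i) p) =
      Polynomial.aeval (a i) p := fun i p => by
    rw [← Polynomial.aeval_algHom_apply, MvPolynomial.aeval_X]
  let ev : MvPolynomial (Fin n) R ⧸ rel g →+* A :=
    Ideal.Quotient.lift (rel g) (MvPolynomial.aeval a).toRingHom fun p hp => by
      induction hp using Submodule.span_induction with
      | mem p hp => obtain ⟨i, rfl⟩ := hp; exact (hX i _).trans (h i)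
      | zero => exact map_zero _
      | add p q _ _ hp hq => rw [map_add, hp, hq, add_zero]
      | smul r p _ hp => rw [smul_eq_mul, map_mul, hp, mul_zero]
  have hu : IsUnit (ev (Ideal.Quotient.mk (rel g) (den g))) := by
    show IsUnit (MvPolynomial.aeval a (den g))
    rw [den, map_prod, IsUnit.prod_univ_iff]
    exact fun i => (hX i _).symm ▸ h' i
  exact ⟨IsLocalization.Away.lift _ hu, fun p => IsLocalization.Away.lift_eq _ hu _⟩

theorem hom_ext {A : Type u} [CommRing A] [Algebra R A] (g : Fin n → Polynomial R) (φ ψ : W g →ₐ[R] A)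
    (h : ∀ i, φ (algebraMap (MvPolynomial (Fin n) R) (W g) (MvPolynomial.X i)) =
      ψ (algebraMap (MvPolynomial (Fin n) R) (W g) (MvPolynomial.X i))) : φ = ψ := by
  apply IsLocalization.algHom_ext (Submonoid.powers (Ideal.Quotient.mk (rel g) (den g)))
  apply Ideal.Quotient.algHom_ext
  apply MvPolynomial.algHom_ext
  exact h

theorem aeval_algebraMap_X {A : Type u} [CommRing A] [Algebra R A] [Algebra (MvPolynomial (Fin n) R) A]
    [IsScalarTower R (MvPolynomial (Fin n) R) A] (i : Fin n) (p : Polynomial R) :
    algebraMap (MvPolynomial (Fin n) R) A (Polynomial.aeval (MvPolynomial.X i) p) =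
      Polynomial.aeval (algebraMap (MvPolynomial (Fin n) R) A (MvPolynomial.X i)) p :=
  (Polynomial.aeval_algebraMap_apply A (MvPolynomial.X i) p).symm

theorem aeval_root (g : Fin n → Polynomial R) (i : Fin n) :
    Polynomial.aeval (algebraMap (MvPolynomial (Fin n) R) (W g) (MvPolynomial.X i)) (g i) = 0 := by
  rw [← aeval_algebraMap_X (R := R) (A := W g), IsScalarTower.algebraMap_apply (MvPolynomial (Fin n) R)
      (MvPolynomial (Fin n) R ⧸ rel g) (W g), Ideal.Quotient.algebraMap_eq,
      Ideal.Quotient.eq_zero_iff_mem.2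
        (show Polynomial.aeval (MvPolynomial.X i) (g i) ∈ rel g from
          Ideal.subset_span (Set.mem_range_self (f := fun i =>
            Polynomial.aeval (MvPolynomial.X i) (g i)) i)), map_zero]

theorem isUnit_aeval_derivative (g : Fin n → Polynomial R) (i : Fin n) :
    IsUnit (Polynomial.aeval (algebraMap (MvPolynomial (Fin n) R) (W g) (MvPolynomial.X i))
      (Polynomial.derivative (g i))) := by
  have h : IsUnit (algebraMap (MvPolynomial (Fin n) R) (W g) (den g)) := by
    rw [IsScalarTower.algebraMap_apply (MvPolynomial (Fin n) R)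
      (MvPolynomial (Fin n) R ⧸ rel g) (W g)]
    exact IsLocalization.Away.algebraMap_isUnit _
  simp only [den, map_prod, IsUnit.prod_univ_iff] at h
  exact aeval_algebraMap_X (R := R) (A := W g) i _ ▸ h i

theorem formallyEtale (g : Fin n → Polynomial R) : Algebra.FormallyEtale R (W g) := by
  refine Algebra.FormallyEtale.iff_comp_bijective.2 fun A _ _ I hI => ?_
  have hsq : ∀ x ∈ I, x ^ 2 = 0 := fun x hx => by
    have : x * x ∈ I ^ 2 := by rw [pow_two]; exact Ideal.mul_mem_mul hx hx
    rw [hI] at this
    rw [pow_two]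
    exact this
  let xi : Fin n → W g := fun i => algebraMap (MvPolynomial (Fin n) R) (W g) (MvPolynomial.X i)
  have hroot : ∀ i, Polynomial.aeval (xi i) (g i) = 0 := aeval_root g
  have hunit : ∀ i, IsUnit (Polynomial.aeval (xi i) (Polynomial.derivative (g i))) :=
    isUnit_aeval_derivative g
  constructor
  · intro φ ψ h
    refine hom_ext g φ ψ fun i => ?_
    have hd : φ (xi i) - ψ (xi i) ∈ I := by
      rw [← Ideal.Quotient.eq_zero_iff_mem, map_sub, sub_eq_zero]
      exact congrArg (fun f => f (xi i)) h
    have e := Polynomial.aeval_add_of_sq_eq_zero (g i) (ψ (xi i)) _ (hsq _ hd)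
    rw [add_sub_cancel, Polynomial.aeval_algHom_apply φ, Polynomial.aeval_algHom_apply ψ,
      Polynomial.aeval_algHom_apply ψ, hroot, map_zero, map_zero, zero_add] at e
    exact sub_eq_zero.1 (((hunit i).map ψ).mul_right_eq_zero.1 e.symm)
  · intro f
    choose b hb using fun i => Ideal.Quotient.mk_surjective (f (xi i))
    have hf : ∀ (i) (p : Polynomial R), Ideal.Quotient.mk I (Polynomial.aeval (b i) p) =
        f (Polynomial.aeval (xi i) p) := fun i p => by
      rw [← Ideal.Quotient.mkₐ_eq_mk R, ← Polynomial.aeval_algHom_apply,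
        ← Polynomial.aeval_algHom_apply, Ideal.Quotient.mkₐ_eq_mk, hb]
    have hlift : ∀ z : A, IsUnit (Ideal.Quotient.mk I z) → IsUnit z := fun z hz => by
      obtain ⟨w, hw⟩ := Ideal.Quotient.mk_surjective (hz.unit⁻¹.1)
      have h1 : z * w - 1 ∈ I := by
        rw [← Ideal.Quotient.eq_zero_iff_mem, map_sub, map_mul, map_one, hw]
        exact sub_eq_zero.2 hz.mul_val_inv
      refine IsUnit.of_mul_eq_one (w * (2 - z * w)) ?_
      linear_combination -hsq _ h1
    have hu : ∀ i, IsUnit (Polynomial.aeval (b i) (Polynomial.derivative (g i))) := fun i => by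
      refine hlift _ ?_
      rw [hf]
      exact (hunit i).map f
    choose v hv using fun i => (hu i).exists_right_inv
    let a : Fin n → A := fun i => b i + -(v i * Polynomial.aeval (b i) (g i))
    have hc : ∀ i, v i * Polynomial.aeval (b i) (g i) ∈ I := fun i => by
      refine Ideal.mul_mem_left _ _ ?_
      rw [← Ideal.Quotient.eq_zero_iff_mem, hf, hroot, map_zero]
    have ha : ∀ i, Polynomial.aeval (a i) (g i) = 0 := fun i => by
      rw [Polynomial.aeval_add_of_sq_eq_zero _ _ _ (hsq _ (neg_mem (hc i))), mul_neg, ← mul_assoc,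
        hv, one_mul, add_neg_cancel]
    have hab : ∀ i, Ideal.Quotient.mk I (a i) = f (xi i) := fun i => by
      rw [map_add, map_neg, Ideal.Quotient.eq_zero_iff_mem.2 (hc i), neg_zero, add_zero, hb]
    have ha' : ∀ i, IsUnit (Polynomial.aeval (a i) (Polynomial.derivative (g i))) := fun i => by
      refine hlift _ ?_
      rw [← Ideal.Quotient.mkₐ_eq_mk R, ← Polynomial.aeval_algHom_apply, Ideal.Quotient.mkₐ_eq_mk,
        hab, Polynomial.aeval_algHom_apply]
      exact (hunit i).map f
    obtain ⟨φ, hφ⟩ := exists_lift g a ha ha'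
    let φ' : W g →ₐ[R] A :=
      { φ with
        commutes' := fun r => by
          show φ (algebraMap R (W g) r) = _
          rw [IsScalarTower.algebraMap_apply R (MvPolynomial (Fin n) R) (W g), hφ]
          exact (MvPolynomial.aeval a).commutes r }
    refine ⟨φ', hom_ext g _ _ fun i => ?_⟩
    show Ideal.Quotient.mk I (φ (algebraMap (MvPolynomial (Fin n) R) (W g) (MvPolynomial.X i))) = _
    rw [hφ, MvPolynomial.aeval_X]
    exact hab i

theorem finitePresentation (g : Fin n → Polynomial R) : Algebra.FinitePresentation R (W g) := by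
  haveI : Algebra.FinitePresentation R (MvPolynomial (Fin n) R ⧸ rel g) :=
    Algebra.FinitePresentation.quotient (Submodule.fg_span (Set.finite_range _))
  haveI : Algebra.FinitePresentation (MvPolynomial (Fin n) R ⧸ rel g) (W g) :=
    IsLocalization.Away.finitePresentation (Ideal.Quotient.mk (rel g) (den g))
  exact Algebra.FinitePresentation.trans R (MvPolynomial (Fin n) R ⧸ rel g) (W g)

theorem etale (g : Fin n → Polynomial R) : Algebra.Etale R (W g) :=
  haveI := formallyEtale g
  haveI := finitePresentation g
  ⟨inferInstance, inferInstance⟩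

theorem flat (g : Fin n → Polynomial R) : Module.Flat R (W g) :=
  haveI := etale g
  inferInstance

end Groth.Agent.EtalePoints
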