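import Groth.Agent.EtalePoints.Fibre
import Groth.Agent.SrcDescent.FlatModelAlg
import Mathlib.RingTheory.Filtration
import Mathlib.RingTheory.Flat.EquationalCriterion
import Mathlib.RingTheory.Flat.Stability
import Mathlib.RingTheory.Polynomial.Basic

/-! A flat finitely presented algebra over `R[x₁,…,xₙ]` embeds into the product of its restrictions
to the standard étale algebras. -/

set_option autoImplicit false

open TensorProduct

namespace Groth.Agent.EtalePoints

universe u

theorem exists_trivial_aux {R Z : Type u} [CommRing R] [CommRing Z] [Algebra R Z] [Module.Flat R Z]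
    {ι : Type} [Fintype ι] (v : ι → R) (x : ι → Z) (h : ∑ i, algebraMap R Z (v i) * x i = 0) :
    ∃ (l : ℕ) (e : ι → Fin l → R) (y : Fin l → Z),
      (∀ i, x i = ∑ j, algebraMap R Z (e i j) * y j) ∧ ∀ j, ∑ i, v i * e i j = 0 := by
  have h' : ∑ i, v i • x i = 0 := by
    rw [← h]
    exact Finset.sum_congr rfl fun i _ => Algebra.smul_def _ _
  obtain ⟨l, e, y, hy, he⟩ := Module.Flat.isTrivialRelation_of_sum_smul_eq_zero (R := R) (M := Z) (f := v) (x := x) h'
  exact ⟨l, e, y, fun i => (hy i).trans (Finset.sum_congr rfl fun j _ => Algebra.smul_def _ _), he⟩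

theorem includeRight_inj_aux {R R' Z : Type u} [CommRing R] [CommRing R'] [CommRing Z] [Algebra R R']
    [Algebra R Z] [Module.Flat R Z] (hR : Function.Injective (algebraMap R R')) (z : Z)
    (hz : (Algebra.TensorProduct.includeRight : Z →ₐ[R] R' ⊗[R] Z) z = 0) : z = 0 :=
  Algebra.TensorProduct.includeRight_injective hR (hz.trans (map_zero _).symm)

section generic

variable {R P W B : Type u} [CommRing R] [CommRing P] [CommRing W] [CommRing B] [Algebra R P]
  [Algebra R W] [Algebra P W] [IsScalarTower R P W] [Algebra P B] [Module.Flat R W] [Module.Flat P B]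

theorem flat_tensor : @Module.Flat R (W ⊗[P] B) _ _ Algebra.toModule :=
  Module.Flat.trans R W _

theorem exists_trivial {ι : Type} [Fintype ι] (v : ι → R) (x : ι → W ⊗[P] B)
    (h : ∑ i, algebraMap R (W ⊗[P] B) (v i) * x i = 0) :
    ∃ (l : ℕ) (e : ι → Fin l → R) (y : Fin l → W ⊗[P] B),
      (∀ i, x i = ∑ j, algebraMap R (W ⊗[P] B) (e i j) * y j) ∧ ∀ j, ∑ i, v i * e i j = 0 :=
  haveI : @Module.Flat R (W ⊗[P] B) _ _ Algebra.toModule := flat_tensor
  exists_trivial_aux v x h

theorem includeRight_inj (R' : Type u) [CommRing R'] [Algebra R R']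
    (hR : Function.Injective (algebraMap R R')) (z : W ⊗[P] B)
    (hz : (Algebra.TensorProduct.includeRight : W ⊗[P] B →ₐ[R] R' ⊗[R] (W ⊗[P] B)) z = 0) : z = 0 :=
  haveI : @Module.Flat R (W ⊗[P] B) _ _ Algebra.toModule := flat_tensor
  includeRight_inj_aux hR z hz

end generic

theorem eq_zero_of_noetherian {R : Type u} [CommRing R] [IsNoetherianRing R] {n : ℕ} {B : Type u}
    [CommRing B] [Algebra R B]
    [Algebra (MvPolynomial (Fin n) R) B] [IsScalarTower R (MvPolynomial (Fin n) R) B]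
    [Module.Flat (MvPolynomial (Fin n) R) B] [Algebra.FiniteType (MvPolynomial (Fin n) R) B]
    (t : B) (h : ∀ g : Fin n → Polynomial R, (1 ⊗ₜ t : W g ⊗[MvPolynomial (Fin n) R] B) = 0) :
    t = 0 := by
  classical
  haveI : IsNoetherianRing B := Algebra.FiniteType.isNoetherianRing (MvPolynomial (Fin n) R) B
  by_contra ht
  let J : Ideal B := LinearMap.ker (LinearMap.toSpanSingleton B B t)
  have hJ : ∀ x, x ∈ J ↔ x * t = 0 := fun x => by
    simp [J]
  obtain ⟨q, hq, hJq⟩ := Ideal.exists_le_maximal J fun hJ1 => ht (by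
    simpa using (hJ 1).1 (hJ1 ▸ Submodule.mem_top))
  haveI := hq.isPrime
  let m : Ideal R := q.comap (algebraMap R B)
  have hmq : m.map (algebraMap R B) ≤ q := Ideal.map_comap_le
  have key : ∀ k : ℕ, ∃ u ∉ q, u * t ∈ (m ^ k).map (algebraMap R B) := by
    intro k
    induction k with
    | zero => exact ⟨1, fun h1 => hq.ne_top ((Ideal.eq_top_iff_one q).2 h1), by
      rw [pow_zero, Ideal.one_eq_top, Ideal.map_top]; exact Submodule.mem_top⟩
    | succ k ih =>
      let Good : ℕ → Prop := fun p => ∃ a : Fin p → R, (∀ j, a j ∈ m ^ k) ∧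
        ∃ u ∉ q, u * t ∈ (Ideal.span (Set.range a) ⊔ m ^ (k + 1)).map (algebraMap R B)
      have hex : ∃ p, Good p := by
        obtain ⟨p, a, ha⟩ := Submodule.fg_iff_exists_fin_generating_family.1
          ((isNoetherianRing_iff_ideal_fg R).1 inferInstance (m ^ k))
        obtain ⟨u, hu, hut⟩ := ih
        refine ⟨p, a, fun j => ha ▸ Submodule.subset_span (Set.mem_range_self j), u, hu, ?_⟩
        exact Ideal.map_mono (show m ^ k ≤ _ from ha ▸ le_sup_left) hut
      obtain ⟨a, ham, u, hu, hut⟩ := Nat.find_spec hex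
      obtain ⟨r, f, hf⟩ := Submodule.fg_iff_exists_fin_generating_family.1
        ((isNoetherianRing_iff_ideal_fg R).1 inferInstance (m ^ (k + 1)))
      replace hf : Ideal.span (Set.range f) = m ^ (k + 1) := hf
      let v : Fin (Nat.find hex) ⊕ Fin r → R := Sum.elim a f
      have hsup : Ideal.span (Set.range a) ⊔ m ^ (k + 1) = Ideal.span (Set.range v) := by
        rw [Set.Sum.elim_range, Ideal.span_union, hf]
      rw [hsup, Ideal.map_span, ← Set.range_comp, Ideal.span, Submodule.mem_span_range_iff_exists_fun] at hut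
      obtain ⟨c, hc⟩ := hut
      have hcm : ∀ j, c (Sum.inl j) ∈ m.map (algebraMap R B) := by
        intro j
        refine mem_map_of_forall (R := R) (n := n) m _ fun g => ?_
        haveI := flat g
        let φ : B →ₐ[MvPolynomial (Fin n) R] W g ⊗[MvPolynomial (Fin n) R] B :=
          Algebra.TensorProduct.includeRight
        have hrel : ∑ i, algebraMap R (W g ⊗[MvPolynomial (Fin n) R] B) (v i) * φ (c i) = 0 := by
          have h0 : φ (u * t) = 0 := by rw [map_mul, show φ t = 0 from h g, mul_zero]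
          rw [← hc, map_sum] at h0
          rw [← h0]
          refine Finset.sum_congr rfl fun i _ => ?_
          rw [smul_eq_mul, map_mul, Function.comp_apply, mul_comm,
            IsScalarTower.algebraMap_apply R (MvPolynomial (Fin n) R) B, AlgHom.commutes,
            ← IsScalarTower.algebraMap_apply]
        obtain ⟨l, e, y, hy, he⟩ := exists_trivial (P := MvPolynomial (Fin n) R) v (fun i => φ (c i)) hrel
        show φ (c (Sum.inl j)) ∈ _
        rw [hy (Sum.inl j)]
        refine sum_mem fun i _ => ?_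
        refine Ideal.mul_mem_right _ _ (Ideal.mem_map_of_mem _ ?_)
        by_contra hne
        obtain ⟨p', hp'⟩ := Nat.exists_eq_add_one.2 (Fin.pos j)
        let a' : Fin p' → R := fun s => a (Fin.cast hp'.symm ((Fin.cast hp' j).succAbove s))
        have hmem : ∀ s, s ≠ Sum.inl j → v s ∈ Ideal.span (Set.range a') ⊔ m ^ (k + 1) := by
          rintro (s | s) hs
          · refine Ideal.mem_sup_left (Ideal.subset_span ?_)
            obtain ⟨s', hs'⟩ := Fin.exists_succAbove_eq (x := Fin.cast hp' s) (y := Fin.cast hp' j)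
              fun e => hs (congrArg Sum.inl (Fin.cast_injective _ e))
            exact ⟨s', by show a _ = a s; rw [hs']; rfl⟩
          · exact Ideal.mem_sup_right (hf ▸ Ideal.subset_span (Set.mem_range_self s))
        have hj : v (Sum.inl j) * e (Sum.inl j) i ∈ Ideal.span (Set.range a') ⊔ m ^ (k + 1) := by
          have := he i
          rw [← Finset.add_sum_erase _ _ (Finset.mem_univ (Sum.inl j)), add_eq_zero_iff_eq_neg] at this
          rw [this]
          exact neg_mem (sum_mem fun s hs => Ideal.mul_mem_right _ _ (hmem s (Finset.ne_of_mem_erase hs)))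
        refine Nat.find_min hex (show p' < Nat.find hex by omega) ⟨a', fun s => ham _,
          algebraMap R B (e (Sum.inl j) i) * u, ?_, ?_⟩
        · exact hq.isPrime.mul_notMem hne hu
        · rw [mul_assoc, ← hc, Finset.mul_sum]
          refine sum_mem fun s _ => ?_
          rw [smul_eq_mul, Function.comp_apply]
          by_cases hs : s = Sum.inl j
          · subst hs
            rw [mul_left_comm, ← map_mul, mul_comm (e (Sum.inl j) i)]
            exact Ideal.mul_mem_left _ _ (Ideal.mem_map_of_mem _ hj)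
          · exact Ideal.mul_mem_left _ _ (Ideal.mul_mem_left _ _ (Ideal.mem_map_of_mem _ (hmem s hs)))
      refine ⟨u, hu, ?_⟩
      rw [← hc]
      refine sum_mem fun s _ => ?_
      rw [smul_eq_mul, Function.comp_apply]
      rcases s with s | s
      · rw [pow_succ', Ideal.map_mul]
        exact Ideal.mul_mem_mul (hcm s) (Ideal.mem_map_of_mem _ (ham s))
      · exact Ideal.mul_mem_left _ _ (Ideal.mem_map_of_mem _ (hf ▸ Ideal.subset_span (Set.mem_range_self s)))
  let Bq := Localization.AtPrime q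
  have hloc : algebraMap B Bq t = 0 := by
    have hne : IsLocalRing.maximalIdeal Bq ≠ ⊤ := (IsLocalRing.maximalIdeal.isMaximal Bq).ne_top
    haveI : IsNoetherianRing Bq := IsLocalization.isNoetherianRing q.primeCompl Bq inferInstance
    rw [← Ideal.mem_bot, ← Ideal.iInf_pow_eq_bot_of_isLocalRing _ hne, Submodule.mem_iInf]
    intro k
    obtain ⟨u, hu, hut⟩ := key k
    have h1 := Ideal.mem_map_of_mem (algebraMap B Bq) hut
    rw [map_mul, Ideal.unit_mul_mem_iff_mem _ (IsLocalization.map_units Bq (⟨u, hu⟩ : q.primeCompl)),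
      Ideal.map_pow, Ideal.map_pow] at h1
    refine Ideal.pow_right_mono ?_ k h1
    rw [← Localization.AtPrime.map_eq_maximalIdeal]
    exact Ideal.map_mono hmq
  obtain ⟨⟨x, hx⟩, hxt⟩ := (IsLocalization.map_eq_zero_iff q.primeCompl Bq t).1 hloc
  exact hx (hJq ((hJ x).2 hxt))

theorem includeRight_eq_zero {R₀ R : Type u} [CommRing R₀] [CommRing R] [Algebra R₀ R] {n : ℕ}
    {B₀ B Z₀ : Type u} [CommRing B₀] [CommRing B] [CommRing Z₀] [Algebra (MvPolynomial (Fin n) R₀) B₀]
    [Algebra (MvPolynomial (Fin n) R) B] [Algebra R₀ Z₀] [Algebra (MvPolynomial (Fin n) R₀) Z₀]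
    [IsScalarTower R₀ (MvPolynomial (Fin n) R₀) Z₀] (t₀ : B₀) (t : B)
    (huniv : ∀ (T : Type u) [CommRing T] (f : MvPolynomial (Fin n) R →+* T) (h₀ : B₀ →+* T),
      (∀ q, f (MvPolynomial.map (algebraMap R₀ R) q) = h₀ (algebraMap _ B₀ q)) →
      ∃ h : B →+* T, (∀ p, h (algebraMap _ B p) = f p) ∧ h t = h₀ t₀)
    (j : B₀ →+* Z₀) (hj : ∀ q : MvPolynomial (Fin n) R₀, j (algebraMap _ B₀ q) = algebraMap _ Z₀ q)
    (g₀ : Fin n → Polynomial R₀)
    (hroot : ∀ i, Polynomial.aeval (algebraMap (MvPolynomial (Fin n) R₀) Z₀ (MvPolynomial.X i)) (g₀ i) = 0)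
    (hunit : ∀ i, IsUnit (Polynomial.aeval (algebraMap (MvPolynomial (Fin n) R₀) Z₀ (MvPolynomial.X i))
      (Polynomial.derivative (g₀ i))))
    (h : (1 ⊗ₜ t : W (fun i => (g₀ i).map (algebraMap R₀ R)) ⊗[MvPolynomial (Fin n) R] B) = 0) :
    (Algebra.TensorProduct.includeRight : Z₀ →ₐ[R₀] R ⊗[R₀] Z₀) (j t₀) = 0 := by
  let P₀ := MvPolynomial (Fin n) R₀
  let iR : Z₀ →ₐ[R₀] R ⊗[R₀] Z₀ := Algebra.TensorProduct.includeRight
  let a : Fin n → R ⊗[R₀] Z₀ := fun i => iR (algebraMap P₀ Z₀ (MvPolynomial.X i))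
  have ha : ∀ (i) (q : Polynomial R₀), Polynomial.aeval (a i) (q.map (algebraMap R₀ R)) =
      iR (Polynomial.aeval (algebraMap P₀ Z₀ (MvPolynomial.X i)) q) := fun i q => by
    rw [Polynomial.aeval_map_algebraMap, Polynomial.aeval_algHom_apply]
  obtain ⟨φ, hφ⟩ := exists_lift (fun i => (g₀ i).map (algebraMap R₀ R)) a
    (fun i => by rw [ha, hroot, map_zero]) fun i => by
    rw [Polynomial.derivative_map, ha]
    exact (hunit i).map iR
  have hι : MvPolynomial.aeval a = iR.comp (IsScalarTower.toAlgHom R₀ P₀ Z₀) :=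
    MvPolynomial.algHom_ext fun i => MvPolynomial.aeval_X _ _
  obtain ⟨h₁, hh₁, hh₁t⟩ := huniv (R ⊗[R₀] Z₀) (MvPolynomial.aeval a).toRingHom (iR.toRingHom.comp j)
    fun q => by
      show MvPolynomial.aeval a _ = iR (j (algebraMap P₀ B₀ q))
      rw [MvPolynomial.aeval_map_algebraMap, hι, hj]
      rfl
  obtain ⟨ψ, hψ⟩ := exists_tensorHom φ h₁ fun q => (hφ q).trans (hh₁ q).symm
  have := congrArg ψ h
  rw [hψ, map_one, one_mul, map_zero, hh₁t] at this
  exact this

set_option synthInstance.maxHeartbeats 100000 in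
theorem eq_zero_descend {R₀ R : Type u} [CommRing R₀] [CommRing R] [Algebra R₀ R] [IsNoetherianRing R₀]
    (hR : Function.Injective (algebraMap R₀ R)) {n : ℕ} {B₀ B : Type u} [CommRing B₀] [CommRing B]
    [Algebra (MvPolynomial (Fin n) R₀) B₀] [Module.Flat (MvPolynomial (Fin n) R₀) B₀]
    [Algebra.FiniteType (MvPolynomial (Fin n) R₀) B₀] [Algebra (MvPolynomial (Fin n) R) B] (t₀ : B₀) (t : B)
    (huniv : ∀ (T : Type u) [CommRing T] (f : MvPolynomial (Fin n) R →+* T) (h₀ : B₀ →+* T),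
      (∀ q, f (MvPolynomial.map (algebraMap R₀ R) q) = h₀ (algebraMap _ B₀ q)) →
      ∃ h : B →+* T, (∀ p, h (algebraMap _ B p) = f p) ∧ h t = h₀ t₀)
    (h : ∀ g : Fin n → Polynomial R, (1 ⊗ₜ t : W g ⊗[MvPolynomial (Fin n) R] B) = 0) : t₀ = 0 := by
  letI : Algebra R₀ B₀ :=
    ((algebraMap (MvPolynomial (Fin n) R₀) B₀).comp (algebraMap R₀ (MvPolynomial (Fin n) R₀))).toAlgebra
  haveI : IsScalarTower R₀ (MvPolynomial (Fin n) R₀) B₀ := IsScalarTower.of_algebraMap_eq fun _ => rfl
  refine eq_zero_of_noetherian (R := R₀) (n := n) t₀ fun g₀ => ?_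
  let P₀ := MvPolynomial (Fin n) R₀
  let Z₀ := W g₀ ⊗[P₀] B₀
  haveI := flat g₀
  refine includeRight_inj (R := R₀) (P := P₀) (W := W g₀) (B := B₀) R hR _ ?_
  let iW : W g₀ →ₐ[R₀] Z₀ := Algebra.TensorProduct.includeLeft
  have hX : ∀ q : P₀, algebraMap P₀ Z₀ q = iW (algebraMap P₀ (W g₀) q) := fun q =>
    IsScalarTower.algebraMap_apply P₀ (W g₀) Z₀ q
  refine includeRight_eq_zero t₀ t huniv (Algebra.TensorProduct.includeRight : B₀ →ₐ[P₀] Z₀).toRingHom
    (fun q => (Algebra.TensorProduct.includeRight : B₀ →ₐ[P₀] Z₀).commutes q) g₀ (fun i => ?_) (fun i => ?_)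
    (h _)
  · rw [hX, Polynomial.aeval_algHom_apply, aeval_root, map_zero]
  · rw [hX, Polynomial.aeval_algHom_apply]
    exact (isUnit_aeval_derivative g₀ i).map iW

theorem exists_model_hom {A P₀ P B₁ T : Type u} [CommRing A] [CommRing P₀] [CommRing P] [CommRing B₁] [CommRing T]
    [Algebra A P₀] [Algebra A P] [Algebra A B₁] (μ : P₀ →+* P)
    (hμ : ∀ a, algebraMap A P a = μ (algebraMap A P₀ a)) (f : P →+* T) (h₀ : P₀ ⊗[A] B₁ →+* T)
    (hf : ∀ q, f (μ q) = h₀ (q ⊗ₜ 1)) :
    ∃ h₁ : P ⊗[A] B₁ →+* T, (∀ p, h₁ (p ⊗ₜ 1) = f p) ∧ ∀ q b, h₁ (μ q ⊗ₜ b) = h₀ (q ⊗ₜ b) := by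
  obtain ⟨h₁, hh₁⟩ := exists_tensorHom (P := A) (W := P) (B := B₁) (T := T) f
    (h₀.comp (Algebra.TensorProduct.includeRight : B₁ →ₐ[A] P₀ ⊗[A] B₁).toRingHom) fun x => by
      show f (algebraMap A P x) = h₀ (Algebra.TensorProduct.includeRight (algebraMap A B₁ x))
      rw [hμ, hf, AlgHom.commutes]
      rfl
  refine ⟨h₁, fun p => by rw [hh₁, map_one, mul_one], fun q b => ?_⟩
  rw [hh₁, hf, RingHom.comp_apply, ← map_mul]
  congr 1
  simp

set_option synthInstance.maxHeartbeats 100000 in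
theorem eq_zero_of_forall {R : Type u} [CommRing R] {n : ℕ} {B : Type u} [CommRing B]
    [Algebra (MvPolynomial (Fin n) R) B]
    [Module.Flat (MvPolynomial (Fin n) R) B] [Algebra.FinitePresentation (MvPolynomial (Fin n) R) B]
    (t : B) (h : ∀ g : Fin n → Polynomial R, (1 ⊗ₜ t : W g ⊗[MvPolynomial (Fin n) R] B) = 0) :
    t = 0 := by
  classical
  obtain ⟨A₁, B₁, _, _, hA₁, hflat, hfp, ⟨e⟩⟩ := SrcDescent.exists_flat_model (MvPolynomial (Fin n) R) B
  obtain ⟨s, hs⟩ := hA₁
  obtain ⟨S, hS⟩ := TensorProduct.exists_finset (e t)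
  let c : Finset R := (s ∪ S.image Prod.fst).biUnion fun p => p.coeffs
  let R₀ : Subalgebra ℤ R := Algebra.adjoin ℤ (c : Set R)
  have : Algebra.FiniteType ℤ R₀ := (Subalgebra.fg_iff_finiteType R₀).1 (Subalgebra.fg_adjoin_finset c)
  have : IsNoetherianRing R₀ := Algebra.FiniteType.isNoetherianRing ℤ R₀
  let P := MvPolynomial (Fin n) R
  let P₀ := MvPolynomial (Fin n) R₀
  let μ : P₀ →+* P := MvPolynomial.map (algebraMap R₀ R)
  have hμ : Function.Injective μ := MvPolynomial.map_injective _ Subtype.val_injective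
  have hrange : ∀ p ∈ s ∪ S.image Prod.fst, p ∈ μ.range := fun p hp =>
    MvPolynomial.mem_range_map_iff_coeffs_subset.2 fun x hx =>
      ⟨⟨x, Algebra.subset_adjoin (Finset.mem_biUnion.2 ⟨p, hp, hx⟩)⟩, rfl⟩
  have hA : ∀ a : A₁, ∃ p, μ p = (a : P) := by
    intro a
    have : A₁ ≤ subalgebraOfSubring μ.range := hs ▸ Algebra.adjoin_le fun y hy =>
      hrange y (Finset.mem_union_left _ hy)
    exact this a.2
  choose j hj using hA
  let j' : A₁ →+* P₀ :=
    { toFun := j
      map_one' := hμ (by rw [hj, map_one]; rfl)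
      map_mul' := fun x y => hμ (by rw [map_mul, hj, hj, hj]; rfl)
      map_zero' := hμ (by rw [hj, map_zero]; rfl)
      map_add' := fun x y => hμ (by rw [map_add, hj, hj, hj]; rfl) }
  letI : Algebra A₁ P₀ := j'.toAlgebra
  let B₀ := P₀ ⊗[A₁] B₁
  have hp : ∀ x : S, ∃ p, μ p = x.1.1 := fun x =>
    hrange _ (Finset.mem_union_right _ (Finset.mem_image_of_mem _ x.2))
  choose p₀ hp₀ using hp
  let t₀ : B₀ := ∑ x : S, p₀ x ⊗ₜ x.1.2
  have hP : ∀ a : A₁, algebraMap A₁ P a = μ (algebraMap A₁ P₀ a) := fun a => (hj a).symm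
  letI : Algebra P₀ P := μ.toAlgebra
  suffices ht₀ : t₀ = 0 by
    obtain ⟨ψ, hψ⟩ := exists_tensorHom (P := A₁) (W := P₀) (B := B₁) (T := P ⊗[A₁] B₁)
      ((algebraMap P (P ⊗[A₁] B₁)).comp μ) Algebra.TensorProduct.includeRight.toRingHom fun a => by
        show algebraMap P (P ⊗[A₁] B₁) (μ _) = Algebra.TensorProduct.includeRight (algebraMap A₁ B₁ a)
        rw [← hP, AlgHom.commutes]
        rfl
    have : ψ t₀ = e t := by
      rw [map_sum, hS, ← Finset.sum_coe_sort S]
      refine Finset.sum_congr rfl fun x _ => ?_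
      rw [hψ, RingHom.comp_apply, hp₀, Algebra.TensorProduct.algebraMap_apply]
      simp
    rw [ht₀, map_zero] at this
    exact e.injective (by rw [map_zero]; exact this.symm)
  refine eq_zero_descend (R₀ := R₀) Subtype.val_injective t₀ t (fun T _ f h₀ hf => ?_) h
  obtain ⟨h₁, hh₁, hh₁'⟩ := exists_model_hom μ hP f h₀ fun q => hf q
  refine ⟨h₁.comp e.toRingEquiv.toRingHom, fun p => ?_, ?_⟩
  · show h₁ (e (algebraMap P B p)) = f p
    rw [e.commutes, Algebra.TensorProduct.algebraMap_apply]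
    exact hh₁ p
  · show h₁ (e t) = h₀ t₀
    rw [hS, map_sum, map_sum, ← Finset.sum_coe_sort S]
    refine Finset.sum_congr rfl fun x _ => ?_
    rw [← hp₀ x]
    exact hh₁' _ _

end Groth.Agent.EtalePoints
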