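import Groth.Agent.EtalePoints.Basic
import Groth.Agent.S0389
import Mathlib.Algebra.MvPolynomial.Funext
import Mathlib.FieldTheory.IsSepClosed
import Mathlib.FieldTheory.Perfect
import Mathlib.RingTheory.Localization.Integral
import Mathlib.RingTheory.TensorProduct.MvPolynomial

/-! The étale points of `𝔸ⁿ` detect divisibility in a flat algebra on a fibre. -/

set_option autoImplicit false

open TensorProduct

namespace Groth.Agent.EtalePoints

universe u

theorem exists_tensorHom {P W B T : Type u} [CommRing P] [CommRing W] [CommRing B] [CommRing T]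
    [Algebra P W] [Algebra P B] (f : W →+* T) (h : B →+* T)
    (hfh : ∀ p, f (algebraMap P W p) = h (algebraMap P B p)) :
    ∃ ψ : W ⊗[P] B →+* T, ∀ w b, ψ (w ⊗ₜ b) = f w * h b := by
  letI : Algebra P T := (f.comp (algebraMap P W)).toAlgebra
  let f' : W →ₐ[P] T := { f with commutes' := fun p => rfl }
  let h' : B →ₐ[P] T := { h with commutes' := fun p => (hfh p).symm }
  exact ⟨(Algebra.TensorProduct.productMap f' h').toRingHom,
    fun w b => Algebra.TensorProduct.productMap_apply_tmul f' h' w b⟩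

theorem infinite_separableClosure (κ : Type u) [Field κ] : Infinite (SeparableClosure κ) := by
  by_contra hK
  have : Finite (SeparableClosure κ) := not_infinite_iff_finite.1 hK
  exact hK inferInstance

theorem mem_map_of_forall {R : Type u} [CommRing R] {n : ℕ} {B : Type u} [CommRing B] [Algebra R B]
    [Algebra (MvPolynomial (Fin n) R) B] [IsScalarTower R (MvPolynomial (Fin n) R) B]
    [Module.Flat (MvPolynomial (Fin n) R) B] [Algebra.FiniteType (MvPolynomial (Fin n) R) B]
    (m : Ideal R) [m.IsPrime] (b : B)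
    (h : ∀ g : Fin n → Polynomial R, (1 ⊗ₜ b : W g ⊗[MvPolynomial (Fin n) R] B) ∈
      m.map (algebraMap R (W g ⊗[MvPolynomial (Fin n) R] B))) :
    b ∈ m.map (algebraMap R B) := by
  classical
  by_contra hb
  letI : Algebra (MvPolynomial (Fin n) R) (MvPolynomial (Fin n) (R ⧸ m)) :=
    (MvPolynomial.map (Ideal.Quotient.mk m)).toAlgebra
  let Q := MvPolynomial (Fin n) (R ⧸ m)
  let A := Q ⊗[MvPolynomial (Fin n) R] B
  have hb' : (1 ⊗ₜ b : A) ≠ 0 := by
    intro h0
    let γ : Q →+* B ⧸ m.map (algebraMap R B) := MvPolynomial.eval₂Hom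
      (Ideal.Quotient.lift m ((Ideal.Quotient.mk _).comp (algebraMap R B)) fun r hr =>
        Ideal.Quotient.eq_zero_iff_mem.2 (Ideal.mem_map_of_mem _ hr))
      fun i => Ideal.Quotient.mk _ (algebraMap (MvPolynomial (Fin n) R) B (MvPolynomial.X i))
    have hγ : γ.comp (algebraMap (MvPolynomial (Fin n) R) Q) =
        (Ideal.Quotient.mk (m.map (algebraMap R B))).comp (algebraMap (MvPolynomial (Fin n) R) B) := by
      refine MvPolynomial.ringHom_ext (fun r => ?_) fun i => ?_
      · show γ (MvPolynomial.map (Ideal.Quotient.mk m) (MvPolynomial.C r)) =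
          Ideal.Quotient.mk _ (algebraMap (MvPolynomial (Fin n) R) B (MvPolynomial.C r))
        rw [MvPolynomial.map_C, MvPolynomial.eval₂Hom_C, Ideal.Quotient.lift_mk, RingHom.comp_apply,
          IsScalarTower.algebraMap_apply R (MvPolynomial (Fin n) R) B, MvPolynomial.algebraMap_eq]
      · simp [γ, Q, RingHom.algebraMap_toAlgebra]
    obtain ⟨ψ, hψ⟩ := exists_tensorHom γ (Ideal.Quotient.mk (m.map (algebraMap R B)))
      (RingHom.congr_fun hγ)
    apply hb
    rw [← Ideal.Quotient.eq_zero_iff_mem]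
    have := congrArg ψ h0
    rwa [hψ, map_one, one_mul, map_zero] at this
  obtain ⟨f, hf, -, hfree, -, -⟩ := Groth.Agent.S0389.result (R := Q) (S := A) (M := A)
  haveI := hfree
  let L := Localization.Away f
  have hinj : Function.Injective (Algebra.TensorProduct.includeRight : A →ₐ[Q] L ⊗[Q] A) :=
    Algebra.TensorProduct.includeRight_injective
      (IsLocalization.injective L (powers_le_nonZeroDivisors_of_noZeroDivisors hf))
  let bas := Module.Free.chooseBasis L (L ⊗[Q] A)
  obtain ⟨i₀, hi₀⟩ : ∃ i, bas.coord i (1 ⊗ₜ (1 ⊗ₜ b : A)) ≠ 0 := by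
    by_contra hc
    push Not at hc
    refine hb' (hinj ?_)
    rw [map_zero]
    exact bas.forall_coord_eq_zero_iff.1 hc
  let ℓ := bas.coord i₀
  obtain ⟨⟨p, ⟨_, N, rfl⟩⟩, hp⟩ := IsLocalization.surj (Submonoid.powers f) (ℓ (1 ⊗ₜ (1 ⊗ₜ b : A)))
  have hp0 : p ≠ 0 := by
    intro h0
    apply hi₀
    rw [h0] at hp
    exact (IsLocalization.map_units L (⟨f ^ N, N, rfl⟩ : Submonoid.powers f)).mul_left_eq_zero.1 (hp.trans (map_zero _))
  let κ := FractionRing (R ⧸ m)
  let K := SeparableClosure κ
  haveI : Infinite K := infinite_separableClosure κ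
  let ι₀ : R ⧸ m →+* K := (algebraMap κ K).comp (algebraMap (R ⧸ m) κ)
  have hι₀ : Function.Injective ι₀ :=
    (algebraMap κ K).injective.comp (IsFractionRing.injective (R ⧸ m) κ)
  obtain ⟨a, ha⟩ : ∃ a : Fin n → K, MvPolynomial.eval a (MvPolynomial.map ι₀ (p * f)) ≠ 0 := by
    by_contra hc
    push Not at hc
    refine mul_ne_zero hp0 hf (MvPolynomial.map_injective ι₀ hι₀ ?_)
    rw [map_zero]
    exact MvPolynomial.funext fun x => (hc x).trans (map_zero _).symm
  let e₀ : Q →+* K := MvPolynomial.eval₂Hom ι₀ a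
  rw [MvPolynomial.eval_map] at ha
  change e₀ (p * f) ≠ 0 at ha
  rw [map_mul, mul_ne_zero_iff] at ha
  letI : Algebra R K := (ι₀.comp (Ideal.Quotient.mk m)).toAlgebra
  have hint : ∀ i, IsIntegral κ (a i) := fun i => Algebra.IsIntegral.isIntegral _
  have hg : ∀ i, ∃ g : Polynomial R, Polynomial.aeval (a i) g = 0 ∧
      IsUnit (Polynomial.aeval (a i) (Polynomial.derivative g)) := by
    intro i
    obtain ⟨c, hc, hG⟩ := IsLocalization.integerNormalization_spec (nonZeroDivisors (R ⧸ m))
      (minpoly κ (a i))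
    obtain ⟨g, hg⟩ := Polynomial.map_surjective (Ideal.Quotient.mk m) Ideal.Quotient.mk_surjective
      (IsLocalization.integerNormalization (nonZeroDivisors (R ⧸ m)) (minpoly κ (a i)))
    rw [← hg, Polynomial.map_map, ← IsScalarTower.algebraMap_smul κ c (minpoly κ (a i))] at hG
    have hev : ∀ q : Polynomial R, Polynomial.aeval (a i) q =
        Polynomial.aeval (a i) (q.map ((algebraMap (R ⧸ m) κ).comp (Ideal.Quotient.mk m))) := fun q => by
      rw [Polynomial.aeval_def, Polynomial.aeval_def, Polynomial.eval₂_map]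
      rfl
    refine ⟨g, ?_, ?_⟩
    · rw [hev, hG, map_smul, minpoly.aeval, smul_zero]
    · rw [hev, ← Polynomial.derivative_map, hG, Polynomial.derivative_smul, map_smul]
      exact isUnit_iff_ne_zero.2 (smul_ne_zero
        (fun h0 => nonZeroDivisors.ne_zero hc (IsFractionRing.injective (R ⧸ m) κ (h0.trans (map_zero _).symm)))
        ((Algebra.IsSeparable.isSeparable κ (a i)).aeval_derivative_ne_zero (minpoly.aeval κ (a i))))
  choose g hgr hgu using hg
  obtain ⟨φ, hφ⟩ := exists_lift g a hgr hgu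
  have hφ' : ∀ q, φ (algebraMap (MvPolynomial (Fin n) R) (W g) q) =
      e₀ (algebraMap (MvPolynomial (Fin n) R) Q q) := fun q => by
    rw [hφ]
    exact (MvPolynomial.eval₂_map _ _ _ q).symm
  let χ : L →+* K := IsLocalization.Away.lift f (g := e₀) (isUnit_iff_ne_zero.2 ha.2)
  have hχ : ∀ q, χ (algebraMap Q L q) = e₀ q := fun q => IsLocalization.Away.lift_eq f _ q
  let τ : B → K := fun c => χ (ℓ (1 ⊗ₜ (1 ⊗ₜ c : A)))
  have hτadd : ∀ c d, τ (c + d) = τ c + τ d := fun c d => by
    simp only [τ, tmul_add, map_add]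
  have hτsmul : ∀ (q : MvPolynomial (Fin n) R) c, τ (q • c) = e₀ (algebraMap _ Q q) * τ c := fun q c => by
    simp only [τ]
    rw [tmul_smul, ← algebraMap_smul Q q (1 ⊗ₜ c : A), tmul_smul,
      ← algebraMap_smul L (algebraMap (MvPolynomial (Fin n) R) Q q) (1 ⊗ₜ (1 ⊗ₜ c : A) : L ⊗[Q] A),
      map_smul, smul_eq_mul, map_mul, hχ]
  letI : Algebra (MvPolynomial (Fin n) R) K :=
    (e₀.comp (algebraMap (MvPolynomial (Fin n) R) Q)).toAlgebra
  have hK : ∀ q, algebraMap (MvPolynomial (Fin n) R) K q = e₀ (algebraMap _ Q q) := fun q => rfl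
  let Θ : W g ⊗[MvPolynomial (Fin n) R] B →ₗ[MvPolynomial (Fin n) R] K :=
    TensorProduct.lift (LinearMap.mk₂ (MvPolynomial (Fin n) R) (fun w c => φ w * τ c)
      (fun w w' c => by rw [map_add, add_mul])
      (fun q w c => by
        rw [Algebra.smul_def q w, map_mul, hφ', Algebra.smul_def q (φ w * τ c), hK, mul_assoc])
      (fun w c c' => by rw [hτadd, mul_add])
      fun q w c => by
        rw [hτsmul, Algebra.smul_def q (φ w * τ c), hK]
        ring)
  have hkill : ∀ z ∈ m.map (algebraMap R (W g ⊗[MvPolynomial (Fin n) R] B)), Θ z = 0 := by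
    suffices ∀ z ∈ m.map (algebraMap R (W g ⊗[MvPolynomial (Fin n) R] B)), ∀ y, Θ (y * z) = 0 from
      fun z hz => by simpa using this z hz 1
    intro z hz
    induction hz using Submodule.span_induction with
    | mem x hx =>
      obtain ⟨r, hr, rfl⟩ := hx
      intro y
      rw [IsScalarTower.algebraMap_apply R (MvPolynomial (Fin n) R), mul_comm, ← Algebra.smul_def,
        map_smul, Algebra.smul_def, hK]
      rw [show algebraMap (MvPolynomial (Fin n) R) Q (algebraMap R (MvPolynomial (Fin n) R) r) = 0 by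
        show MvPolynomial.map _ (MvPolynomial.C r) = 0
        rw [MvPolynomial.map_C, Ideal.Quotient.eq_zero_iff_mem.2 hr, map_zero], map_zero, zero_mul]
    | zero => simp
    | add x y _ _ hx hy => intro w; rw [mul_add, map_add, hx, hy, add_zero]
    | smul r x _ hx => intro w; rw [smul_eq_mul, ← mul_assoc]; exact hx _
  have h1 : φ 1 * τ b = 0 := hkill _ (h g)
  rw [map_one, one_mul] at h1
  have h2 := congrArg χ hp
  rw [map_mul, hχ] at h2
  rw [show χ (ℓ (1 ⊗ₜ (1 ⊗ₜ b : A))) = 0 from h1, zero_mul] at h2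
  exact ha.1 ((hχ p).symm.trans h2.symm)

end Groth.Agent.EtalePoints
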